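import Groth.Agent.Lib.Unip23.Coinv
import Groth.Agent.Lib.Unip23.BaseChange
import Groth.Agent.Lib.Unip23.Points

/-!
# Subgroups, quotients and extensions of unipotent groups
-/

universe u

open TensorProduct HopfRep WithConv
open scoped Groth.Agent.CoalgH23

noncomputable section

namespace Groth.Agent.UnipExt20

open Groth.Agent.CoalgH23

variable {k : Type u} [Field k] {A : Type u} [CommRing A] [HopfAlgebra k A]

theorem map_mem_fixFil {B : Type u} [CommRing B] [HopfAlgebra k B] (φ : A →ₐc[k] B) :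
    ∀ n, ∀ x ∈ fixFil k A A n, φ x ∈ fixFil k B B n := by
  intro n
  induction n with
  | zero =>
    intro x hx
    rw [(Submodule.mem_bot k).1 hx, map_zero]
    exact zero_mem _
  | succ n ih =>
    intro x hx
    obtain ⟨z, hz⟩ := mem_fixFil_succ.1 hx
    refine mem_fixFil_succ.2 ?_
    show CoalgebraStruct.comul (R := k) (φ x) - φ x ⊗ₜ[k] (1 : B) ∈ _
    let f : A →ₗ[k] B := (φ : A →ₐ[k] B).toLinearMap
    rw [show CoalgebraStruct.comul (R := k) (φ x) - φ x ⊗ₜ[k] (1 : B) =
      TensorProduct.map f f ((fixFil k A A n).subtype.rTensor A z) by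
        rw [hz, map_sub, TensorProduct.map_tmul, show f 1 = 1 from map_one φ,
          ← CoalgHomClass.map_comp_comul_apply φ]
        rfl]
    clear hz
    induction z with
    | zero => simp
    | add r q hr hq => simp only [map_add]; exact add_mem hr hq
    | tmul r q => exact ⟨⟨f r.1, ih r.1 r.2⟩ ⊗ₜ[k] f q, rfl⟩

theorem isUnipotent_of_surjective {B : Type u} [CommRing B] [HopfAlgebra k B] (φ : A →ₐc[k] B)
    (hφ : Function.Surjective φ) (hU : IsUnipotent k A) : IsUnipotent k B := by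
  refine Unip23.isUnipotent_of_exhaustive fun b => ?_
  obtain ⟨a, rfl⟩ := hφ b
  obtain ⟨n, hn⟩ := Unip23.exists_mem_fixFil hU a
  exact ⟨n, map_mem_fixFil φ n a hn⟩

theorem isUnipotent_of_injective {C : Type u} [CommRing C] [HopfAlgebra k C] (ψ : C →ₐc[k] A)
    (hψ : Function.Injective ψ) (hU : IsUnipotent k A) : IsUnipotent k C := by
  intro V _ _ c _ _
  let cA : Comod k A V := pushComod (ψ : C →ₗc[k] A) c
  obtain ⟨w, hw, hw0⟩ := Submodule.exists_mem_ne_zero_of_ne_bot (@hU V _ _ cA inferInstance inferInstance)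
  refine (Submodule.ne_bot_iff _).2 ⟨w, ?_, hw0⟩
  have hw' : ((ψ : C →ₗc[k] A) : C →ₗ[k] A).lTensor V (c.coact w) = w ⊗ₜ[k] (1 : A) := hw
  show c.coact w = w ⊗ₜ[k] (1 : C)
  apply Module.Flat.lTensor_preserves_injective_linearMap (M := V) ((ψ : C →ₗc[k] A) : C →ₗ[k] A) hψ
  rw [hw', LinearMap.lTensor_tmul]
  exact congrArg (fun a : A => w ⊗ₜ[k] a) (map_one ψ).symm

theorem isUnipotent_of_extension [Algebra.FiniteType k A] {C : Type u} [CommRing C] [HopfAlgebra k C]
    [Algebra.FiniteType k C] (ψ : C →ₐc[k] A) (J : Ideal A) [J.IsHopfIdeal k]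
    (hψ : Function.Injective ψ)
    (hJ : J = Ideal.map (ψ : C →+* A) (RingHom.ker (Bialgebra.counitAlgHom k C)))
    (hC : IsUnipotent k C) (hU : IsUnipotent k (A ⧸ J)) : IsUnipotent k A := by
  classical
  intro V _ _ c _ _
  let π : A →ₗc[k] A ⧸ J := (Bialgebra.Quotient.mkBialgHom (R := k) J : A →ₗc[k] A ⧸ J)
  let cD : Comod k (A ⧸ J) V := pushComod π c
  obtain ⟨w₀, hw₀, hw0⟩ := Submodule.exists_mem_ne_zero_of_ne_bot (@hU V _ _ cD inferInstance inferInstance)
  have hw' : (π : A →ₗ[k] A ⧸ J).lTensor V (Comod.coact (k := k) (A := A) w₀) = w₀ ⊗ₜ[k] 1 := hw₀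
  let T : C →ₗ[k] A := (ψ : C →ₐ[k] A).toLinearMap
  let P : ℕ → V → Prop := fun n v => ∀ φ : V →ₗ[k] k,
    lslice φ (Comod.coact (k := k) (A := A) v) ∈ (fixFil k C C n).map T
  have hmem : ∀ φ : V →ₗ[k] k, ∃ q : C, T q = lslice φ (Comod.coact (k := k) (A := A) w₀) := by
    intro φ
    let m : V →ₗ[k] A := lslice φ ∘ₗ Comod.coact (k := k) (A := A)
    have hm : CoalgebraStruct.comul (R := k) (m w₀) = m.rTensor A (Comod.coact (k := k) (A := A) w₀) :=
      eq_of_slice_eq fun χ => by rw [slice_rTensor]; exact (lslice_coact_smul φ (toConv χ) w₀).symm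
    obtain ⟨q, hq⟩ := Unip23.mem_range_of_coinvariant ψ J hJ.le (b := m w₀) (by
      rw [hm, show (Ideal.Quotient.mkₐ k J).toLinearMap = (π : A →ₗ[k] A ⧸ J) from rfl,
        ← LinearMap.comp_apply, LinearMap.lTensor_comp_rTensor, ← LinearMap.rTensor_comp_lTensor,
        LinearMap.comp_apply, hw', LinearMap.rTensor_tmul])
    exact ⟨q, hq⟩
  have hex : ∃ n, ∃ v : V, v ≠ 0 ∧ P n v := by
    let b := Module.Free.chooseBasis k V
    haveI : Fintype (Module.Free.ChooseBasisIndex k V) := Fintype.ofFinite _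
    choose q hq using fun i => hmem (b.coord i)
    choose f hf using fun i => Unip23.exists_mem_fixFil hC (q i)
    refine ⟨Finset.univ.sup f, w₀, hw0, fun φ => ?_⟩
    refine ⟨∑ i, φ (b i) • q i, Submodule.sum_mem _ fun i _ => Submodule.smul_mem _ _
      (fixFil_mono (Finset.le_sup (f := f) (Finset.mem_univ i)) (hf i)), ?_⟩
    rw [map_sum]
    simp only [map_smul, hq]
    have key : ∀ x : V ⊗[k] A, lslice φ x = ∑ i, φ (b i) • lslice (b.coord i) x := by
      intro x
      induction x with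
      | zero => simp
      | add r s hr hs => simp only [map_add, hr, hs, smul_add, Finset.sum_add_distrib]
      | tmul r s =>
        simp only [lslice_tmul, smul_smul, ← Finset.sum_smul]
        congr 1
        conv_lhs => rw [← b.sum_repr r, map_sum]
        simp [mul_comm]
    exact (key _).symm
  have hcoef : ∀ (φ : V →ₗ[k] k) (v : V),
      CoalgebraStruct.counit (R := k) (lslice φ (Comod.coact (k := k) (A := A) v)) = φ v := fun φ v => by
    rw [apply_lslice]
    exact congrArg φ (LinearMap.congr_fun actL_counit v)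
  obtain ⟨v, hv, hP⟩ := Nat.find_spec hex
  refine (Submodule.ne_bot_iff _).2 ⟨v, ?_, hv⟩
  obtain ⟨m, hm⟩ : ∃ m, Nat.find hex = m + 1 := by
    rcases hn : Nat.find hex with _ | m
    · refine absurd ((Module.forall_dual_apply_eq_zero_iff k v).1 fun φ => ?_) hv
      have h0 := hP φ
      rw [hn, show fixFil k C C 0 = ⊥ from rfl, Submodule.map_bot, Submodule.mem_bot] at h0
      rw [← hcoef φ v, h0, map_zero]
    · exact ⟨m, rfl⟩
  refine mem_fixedPts_iff'.2 fun χ => ?_
  by_contra hne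
  refine Nat.find_min hex (show m < Nat.find hex by omega) ⟨_, sub_ne_zero.2 hne, fun φ => ?_⟩
  obtain ⟨q, hq, hq'⟩ := hP φ
  rw [hm] at hq
  let χ' : WithConv (C →ₗ[k] k) := toConv (χ.ofConv ∘ₗ T)
  refine ⟨χ' • q - χ'.ofConv 1 • q, smul_sub_mem hq χ', ?_⟩
  have h1 : T (χ' • q) = slice χ.ofConv (CoalgebraStruct.comul (R := k) (T q)) := by
    rw [smul_def]
    show T (slice (χ.ofConv ∘ₗ T) (CoalgebraStruct.comul (R := k) q)) = slice χ.ofConv (CoalgebraStruct.comul (R := k) (ψ q))
    rw [← CoalgHomClass.map_comp_comul_apply ψ]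
    induction CoalgebraStruct.comul (R := k) q with
    | zero => simp
    | add r s hr hs => simp only [map_add, hr, hs]
    | tmul r s => simp [T]
  rw [map_sub T, map_smul T (χ'.ofConv 1) q, h1, hq', map_sub (Comod.coact (k := k) (A := A) (V := V)),
    map_sub (lslice φ), map_smul (Comod.coact (k := k) (A := A) (V := V)) (χ.ofConv 1) v,
    map_smul (lslice φ) (χ.ofConv 1), lslice_coact_smul,
    show χ'.ofConv 1 = χ.ofConv 1 from congrArg χ.ofConv (map_one ψ)]

end Groth.Agent.UnipExt20
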